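import Groth.Agent.Fano.K470.CurDef
import Groth.Agent.Fano.K714.Codim
import Mathlib.RingTheory.AlgebraicIndependent.TranscendenceBasis
import Mathlib.Algebra.MvPolynomial.Equiv

/-!
# Elementary dimension theory of subsets of vector spaces, part 1 (S16525, S16526; NODE DIM of K470.PlanTool)

`DimGE k S d`: a polynomial map to `k^d` has dense image on `S`.
-/

set_option autoImplicit false

universe u

namespace K305.DimA

open LefPen Groth.Agent.Lefpen.H703.ZOpen Module K714.Irr K714.Frames K470.Cur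

variable {k : Type u} [Field k]
variable {V W : Type u} [AddCommGroup V] [Module k V] [AddCommGroup W] [Module k W]

theorem DimGE.mono {S S' : Set V} {d : ℕ} (h : S ⊆ S') (hd : DimGE k S d) : DimGE k S' d := by
  obtain ⟨φ, hφ, H⟩ := hd
  refine ⟨φ, hφ, fun O hO hne => ?_⟩
  obtain ⟨s, hs, hsO⟩ := H O hO hne
  exact ⟨s, h hs, hsO⟩

theorem DimGE.anti {S : Set V} {d d' : ℕ} (h : d' ≤ d) (hd : DimGE k S d) : DimGE k S d' := by
  classical
  obtain ⟨φ, hφ, H⟩ := hd
  have hpm : IsPolyMap k (fun (x : Fin d → k) => fun i : Fin d' => x (Fin.castLE h i)) :=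
    isPolyMap_linear (LinearMap.funLeft k k (Fin.castLE h))
  refine ⟨fun v i => φ v (Fin.castLE h i), pm_comp hpm hφ, fun O hO hne => ?_⟩
  obtain ⟨y, hy⟩ := hne
  obtain ⟨s, hs, hsO⟩ := H _ (zo_preimage hO hpm)
    ⟨fun j => if hj : (j : ℕ) < d' then y ⟨j, hj⟩ else 0, by
      have : (fun i : Fin d' => (fun j : Fin d => if hj : (j : ℕ) < d' then y ⟨j, hj⟩ else 0)
          (Fin.castLE h i)) = y := by
        funext i
        simp
      simp only [Set.mem_preimage]
      rw [this]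
      exact hy⟩
  exact ⟨s, hs, hsO⟩

theorem DimLE.mono {S S' : Set V} {d : ℕ} (h : S ⊆ S') (hd : DimLE k S' d) : DimLE k S d :=
  fun h1 => hd (DimGE.mono h h1)

theorem DimLE.anti {S : Set V} {d d' : ℕ} (h : d ≤ d') (hd : DimLE k S d) : DimLE k S d' :=
  fun h1 => hd (DimGE.anti (Nat.succ_le_succ h) h1)

theorem dimGE_cl {S : Set V} {d : ℕ} : DimGE k (Cl k S) d ↔ DimGE k S d := by
  constructor
  · rintro ⟨φ, hφ, H⟩
    refine ⟨φ, hφ, fun O hO hne => ?_⟩
    obtain ⟨s, hs, hsO⟩ := H O hO hne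
    obtain ⟨t, ht, htO⟩ := hs _ (zo_preimage hO hφ) hsO
    exact ⟨t, ht, htO⟩
  · exact DimGE.mono fun v hv O _ hvO => ⟨v, hv, hvO⟩

theorem dimLE_union [Infinite k] {S S' : Set V} {d : ℕ} (h : DimLE k S d) (h' : DimLE k S' d) :
    DimLE k (S ∪ S') d := by
  rintro ⟨φ, hφ, H⟩
  have h1 : ∃ O : Set (Fin (d + 1) → k), IsZOpen k O ∧ O.Nonempty ∧ ∀ s ∈ S, φ s ∉ O := by
    by_contra hcon
    push Not at hcon
    exact h ⟨φ, hφ, hcon⟩
  have h2 : ∃ O : Set (Fin (d + 1) → k), IsZOpen k O ∧ O.Nonempty ∧ ∀ s ∈ S', φ s ∉ O := by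
    by_contra hcon
    push Not at hcon
    exact h' ⟨φ, hφ, hcon⟩
  obtain ⟨O, hO, hne, hO2⟩ := h1
  obtain ⟨O', hO', hne', hO2'⟩ := h2
  obtain ⟨x, -, hx, hx'⟩ := (irr_univ (k := k) (V := Fin (d + 1) → k)).2 O O' hO hO'
    (by simpa using hne) (by simpa using hne')
  obtain ⟨s, hs, hsO⟩ := H _ (zo_inter hO hO') ⟨x, hx, hx'⟩
  rcases hs with hs | hs
  · exact hO2 s hs hsO.1
  · exact hO2' s hs hsO.2

theorem dimLE_empty (d : ℕ) : DimLE k (∅ : Set V) d := by
  rintro ⟨φ, -, H⟩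
  obtain ⟨s, hs, -⟩ := H Set.univ isZOpen_univ ⟨0, trivial⟩
  exact hs

theorem dimLE_biUnion [Infinite k] {ι : Type*} {I : Set ι} (hI : I.Finite) {S : ι → Set V} {d : ℕ}
    (h : ∀ i ∈ I, DimLE k (S i) d) : DimLE k (⋃ i ∈ I, S i) d := by
  induction I, hI using Set.Finite.induction_on with
  | empty => simpa using dimLE_empty d
  | @insert a s ha hs ih =>
    rw [Set.biUnion_insert]
    exact dimLE_union (h a (Set.mem_insert _ _)) (ih fun i hi => h i (Set.mem_insert_of_mem _ hi))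

theorem DimGE.of_image {S : Set V} {d : ℕ} {φ : V → W} (hφ : IsPolyMap k φ) (h : DimGE k (φ '' S) d) :
    DimGE k S d := by
  obtain ⟨ψ, hψ, H⟩ := h
  refine ⟨fun v => ψ (φ v), pm_comp hψ hφ, fun O hO hne => ?_⟩
  obtain ⟨_, ⟨s, hs, rfl⟩, hsO⟩ := H O hO hne
  exact ⟨s, hs, hsO⟩

theorem DimLE.image {S : Set V} {d : ℕ} (h : DimLE k S d) {φ : V → W} (hφ : IsPolyMap k φ) :
    DimLE k (φ '' S) d := fun h1 => h (DimGE.of_image hφ h1)

theorem dimGE_univ [Infinite k] [FiniteDimensional k V] : DimGE k (Set.univ : Set V) (finrank k V) := by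
  let b := finBasis k V
  refine ⟨b.equivFun, isPolyMap_linear b.equivFun.toLinearMap, fun O _ hne => ?_⟩
  obtain ⟨y, hy⟩ := hne
  refine ⟨b.equivFun.symm y, trivial, ?_⟩
  have h : b.equivFun (b.equivFun.symm y) = y := b.equivFun.apply_symm_apply y
  rw [h]
  exact hy

/-- polynomial functions on `k^n` as polynomials -/
theorem exists_mv {n : ℕ} {f : (Fin n → k) → k} (hf : IsPolyFun k f) :
    ∃ P : MvPolynomial (Fin n) k, ∀ x, f x = MvPolynomial.eval x P := by
  obtain ⟨P, hP⟩ := K714.Codim.exists_mvPoly (Pi.basisFun k (Fin n)) hf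
  exact ⟨P, fun x => by rw [hP]; simp⟩

theorem isZOpen_eval {n : ℕ} (P : MvPolynomial (Fin n) k) :
    IsZOpen k {x : Fin n → k | MvPolynomial.eval x P ≠ 0} :=
  isZOpen_basic (isPolyFun_eval P fun i =>
    isPolyFun_linear' (LinearMap.proj (R := k) (φ := fun _ : Fin n => k) i))

theorem nonempty_eval [Infinite k] {n : ℕ} {P : MvPolynomial (Fin n) k} (hP : P ≠ 0) :
    {x : Fin n → k | MvPolynomial.eval x P ≠ 0}.Nonempty := by
  by_contra hcon
  rw [Set.not_nonempty_iff_eq_empty] at hcon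
  apply hP
  refine MvPolynomial.funext fun x => ?_
  by_contra hx
  have : x ∈ {x : Fin n → k | MvPolynomial.eval x P ≠ 0} := by simpa using hx
  rw [hcon] at this
  exact this

theorem not_dimGE_succ [Infinite k] {n : ℕ} : ¬ DimGE k (Set.univ : Set (Fin n → k)) (n + 1) := by
  rintro ⟨φ, hφ, H⟩
  choose P hP using fun i => exists_mv (isPolyMap_pi.1 hφ i)
  have hdep : ¬ AlgebraicIndependent k P := by
    intro hind
    have h1 := hind.lift_cardinalMk_le_trdeg
    rw [MvPolynomial.trdeg_of_isDomain] at h1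
    simp at h1
  rw [algebraicIndependent_iff] at hdep
  push Not at hdep
  obtain ⟨F, hF, hF0⟩ := hdep
  obtain ⟨s, -, hs⟩ := H _ (isZOpen_eval F) (nonempty_eval hF0)
  apply hs
  have h2 : φ s = fun i => MvPolynomial.eval s (P i) := by
    funext i
    exact hP i s
  have h3 := congrArg (MvPolynomial.eval s) hF
  rw [map_zero, ← MvPolynomial.aeval_eq_eval, MvPolynomial.comp_aeval_apply] at h3
  rw [h2]
  simpa [MvPolynomial.aeval_eq_eval] using h3

theorem dimLE_submodule [Infinite k] [FiniteDimensional k V] (L : Submodule k V) :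
    DimLE k (L : Set V) (finrank k ↥L) := by
  rintro ⟨φ, hφ, H⟩
  let b := finBasis k ↥L
  refine not_dimGE_succ (k := k) (n := finrank k ↥L)
    ⟨fun x => φ (b.equivFun.symm x : V), pm_comp hφ
      (isPolyMap_linear (L.subtype.comp b.equivFun.symm.toLinearMap)), fun O hO hne => ?_⟩
  obtain ⟨s, hs, hsO⟩ := H O hO hne
  exact ⟨b.equivFun ⟨s, hs⟩, trivial, by simpa using hsO⟩

theorem DimGE.prod {S : Set V} {S' : Set W} {d d' : ℕ} (h : DimGE k S d) (h' : DimGE k S' d') :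
    DimGE k (S ×ˢ S') (d + d') := by
  obtain ⟨φ, hφ, H⟩ := h
  obtain ⟨ψ, hψ, H'⟩ := h'
  have hpm : IsPolyMap k (fun p : (Fin d → k) × (Fin d' → k) => (Fin.append p.1 p.2 : Fin (d + d') → k)) := by
    refine isPolyMap_pi.2 fun i => ?_
    refine Fin.addCases (fun i => ?_) (fun i => ?_) i
    · simp only [Fin.append_left]
      exact isPolyFun_linear' ((LinearMap.proj i).comp (LinearMap.fst k (Fin d → k) (Fin d' → k)))
    · simp only [Fin.append_right]
      exact isPolyFun_linear' ((LinearMap.proj i).comp (LinearMap.snd k (Fin d → k) (Fin d' → k)))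
  refine ⟨fun p => Fin.append (φ p.1) (ψ p.2), pm_comp hpm (pm_prodMk (pm_comp hφ isPolyMap_fst)
    (pm_comp hψ isPolyMap_snd)), fun O hO hne => ?_⟩
  obtain ⟨y, hy⟩ := hne
  have hy' : Fin.append (fun i => y (Fin.castAdd d' i)) (fun i => y (Fin.natAdd d i)) = y := by
    funext i
    refine Fin.addCases (fun i => ?_) (fun i => ?_) i
    · simp
    · simp
  rw [← hy'] at hy
  have hO' := zo_preimage hO hpm
  obtain ⟨s, hs, hsO⟩ := H {a | ((a, fun i => y (Fin.natAdd d i)) : (Fin d → k) × (Fin d' → k)) ∈ _}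
    (zo_preimage hO' (pm_prodMk isPolyMap_id (isPolyMap_const _))) ⟨_, hy⟩
  obtain ⟨t, ht, htO⟩ := H' {a | ((φ s, a) : (Fin d → k) × (Fin d' → k)) ∈ _}
    (zo_preimage hO' (pm_prodMk (isPolyMap_const _) isPolyMap_id)) ⟨_, hsO⟩
  exact ⟨(s, t), ⟨hs, ht⟩, htO⟩

/-- dense open parts have the same dimension -/
theorem DimGE.inter_open {S O : Set V} {d : ℕ} (hS : Irr k S) (hO : IsZOpen k O) (h : (S ∩ O).Nonempty)
    (hd : DimGE k S d) : DimGE k (S ∩ O) d := by
  obtain ⟨φ, hφ, H⟩ := hd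
  refine ⟨φ, hφ, fun O' hO' hne => ?_⟩
  obtain ⟨s, hs, hsO⟩ := H O' hO' hne
  obtain ⟨t, ht, htO, htO'⟩ := hS.2 O _ hO (zo_preimage hO' hφ) h ⟨s, hs, hsO⟩
  exact ⟨t, ⟨ht, htO⟩, htO'⟩

theorem eval_cons {n : ℕ} (F : MvPolynomial (Fin (n + 1)) k) (c : k) (x : Fin n → k) :
    MvPolynomial.eval (Fin.cons c x : Fin (n + 1) → k) F =
      MvPolynomial.eval x ((MvPolynomial.finSuccEquiv k n F).eval (MvPolynomial.C c)) := by
  rw [MvPolynomial.eval_eq_eval_mv_eval', Polynomial.eval_map]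
  rw [Polynomial.eval, Polynomial.hom_eval₂]
  congr 1
  simp

/-- strict inclusions -/
theorem dimGE_succ [Infinite k] {S S' : Set V} {d : ℕ} (hS : Irr k S) (h : S' ⊆ S) {g : V → k} (hg : IsPolyFun k g)
    (hg0 : ∀ s ∈ S', g s = 0) {s : V} (hs : s ∈ S) (hgs : g s ≠ 0) (hd : DimGE k S' d) : DimGE k S (d + 1) := by
  obtain ⟨φ, hφ, H⟩ := hd
  have hcons : IsPolyMap k (fun v => (Fin.cons (g v) (φ v) : Fin (d + 1) → k)) := by
    refine isPolyMap_pi.2 fun i => ?_
    refine Fin.cases ?_ (fun i => ?_) i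
    · simpa using hg
    · simpa using isPolyMap_pi.1 hφ i
  refine ⟨_, hcons, fun O hO hne => ?_⟩
  obtain ⟨y, hy⟩ := hne
  obtain ⟨f, hf, hfy, hfO⟩ := hO y hy
  obtain ⟨F, hF⟩ := exists_mv hf
  by_contra hcon
  push Not at hcon
  have h1 : ∀ t ∈ S, MvPolynomial.eval (Fin.cons (g t) (φ t) : Fin (d + 1) → k) F = 0 := by
    intro t ht
    by_contra hne
    exact hcon t ht (hfO _ (by rw [hF]; exact hne))
  have hF0 : F ≠ 0 := by
    rintro rfl
    apply hfy
    rw [hF, map_zero]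
  have hQ0 : MvPolynomial.finSuccEquiv k d F ≠ 0 := by
    rw [Ne, EmbeddingLike.map_eq_zero_iff]
    exact hF0
  obtain ⟨Q, hQ, hQX⟩ := Polynomial.exists_eq_pow_rootMultiplicity_mul_and_not_dvd
    (MvPolynomial.finSuccEquiv k d F) hQ0 0
  rw [map_zero, sub_zero] at hQ hQX
  generalize Polynomial.rootMultiplicity 0 (MvPolynomial.finSuccEquiv k d F) = m at hQ
  rw [Polynomial.X_dvd_iff] at hQX
  have h2 : ∀ t ∈ S, MvPolynomial.eval (φ t) (Q.eval (MvPolynomial.C (g t))) = 0 := by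
    intro t ht
    by_contra hne
    have hpf : IsPolyFun k (fun v => MvPolynomial.eval (φ v) (Q.eval (MvPolynomial.C (g v)))) := by
      have h3 : (fun v => MvPolynomial.eval (φ v) (Q.eval (MvPolynomial.C (g v)))) =
          fun v => MvPolynomial.eval (Fin.cons (g v) (φ v) : Fin (d + 1) → k)
            ((MvPolynomial.finSuccEquiv k d).symm Q) := by
        funext v
        rw [eval_cons, AlgEquiv.apply_symm_apply]
      rw [h3]
      exact isPolyFun_eval _ fun i => isPolyMap_pi.1 hcons i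
    obtain ⟨z, hz, hz1, hz2⟩ := hS.2 _ _ (isZOpen_basic hg) (isZOpen_basic hpf) ⟨s, hs, hgs⟩ ⟨t, ht, hne⟩
    have h4 := h1 z hz
    rw [eval_cons, hQ, Polynomial.eval_mul, map_mul, Polynomial.eval_pow, Polynomial.eval_X, map_pow,
      MvPolynomial.eval_C] at h4
    rcases mul_eq_zero.1 h4 with h5 | h5
    · exact hz1 (eq_zero_of_pow_eq_zero h5)
    · exact hz2 h5
  obtain ⟨z, hz, hzO⟩ := H _ (isZOpen_eval (Q.coeff 0)) (nonempty_eval hQX)
  apply hzO
  have h6 := h2 z (h hz)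
  rw [hg0 z hz, map_zero, ← Polynomial.coeff_zero_eq_eval_zero] at h6
  exact h6

theorem eq_of_dim [Infinite k] {S S' : Set V} {d : ℕ} (hS : Irr k S) (h : S' ⊆ S) (hc : IsZOpen k S'ᶜ)
    (hd : DimGE k S' d) (hle : DimLE k S d) : S' = S := by
  refine Set.Subset.antisymm h fun s hs => ?_
  by_contra hs'
  obtain ⟨g, hg, hgs, hgc⟩ := hc s hs'
  refine hle (dimGE_succ hS h hg (fun t ht => ?_) hs hgs hd)
  by_contra hne
  exact hgc t hne ht

end K305.DimA
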